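import Mathlib.AlgebraicGeometry.Modules.Sheaf
import Mathlib.AlgebraicGeometry.Restrict

/-!
# Restriction to an open commutes with pushforward of modules
-/

set_option autoImplicit false

universe u

open CategoryTheory AlgebraicGeometry Scheme.Modules

namespace Groth.Agent.H33.SchemeDer

lemma restrictFunctor_map_app {X Y : Scheme.{u}} (j : X ⟶ Y) [IsOpenImmersion j]
    {M N : Y.Modules} (φ : M ⟶ N) (W : X.Opens) :
    ((restrictFunctor j).map φ).app W = φ.app (j ''ᵁ W) := rfl

lemma isIso_presheaf_map_homOfLE {X : Scheme.{u}} (M : X.Modules) {a b : X.Opens}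
    (h : b ≤ a) (h' : a ≤ b) : IsIso (M.presheaf.map (homOfLE h).op) := by
  have : IsIso (homOfLE h) := ⟨homOfLE h', Subsingleton.elim _ _, Subsingleton.elim _ _⟩
  infer_instance

variable {X Y : Scheme.{u}} (f : X ⟶ Y) (V : Y.Opens)

/-- `(ι_U)_* ⋙ f_* ≅ (f|_V)_* ⋙ (ι_V)_*`. -/
noncomputable def pushSquare :
    pushforward (f ⁻¹ᵁ V).ι ⋙ pushforward f ≅ pushforward (f ∣_ V) ⋙ pushforward V.ι :=
  pushforwardComp _ _ ≪≫ pushforwardCongr (morphismRestrict_ι f V).symm ≪≫
    (pushforwardComp _ _).symm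

/-- The base change morphism `(f_* M)|_V ⟶ (f|_V)_* (M|_U)`. -/
noncomputable def bcApp (M : X.Modules) :
    (restrictFunctor V.ι).obj ((pushforward f).obj M) ⟶
      (pushforward (f ∣_ V)).obj ((restrictFunctor (f ⁻¹ᵁ V).ι).obj M) :=
  (restrictFunctor V.ι).map ((pushforward f).map ((restrictAdjunction (f ⁻¹ᵁ V).ι).unit.app M)) ≫
    (restrictFunctor V.ι).map ((pushSquare f V).hom.app _) ≫
    (restrictAdjunction V.ι).counit.app _

instance (M : X.Modules) : IsIso
    ((restrictFunctor V.ι).map
      ((pushforward f).map ((restrictAdjunction (f ⁻¹ᵁ V).ι).unit.app M))) := by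
  rw [Hom.isIso_iff_isIso_app]
  intro W
  rw [restrictFunctor_map_app, pushforward_map_app, restrictAdjunction_unit_app_app]
  apply isIso_presheaf_map_homOfLE
  rw [Scheme.Hom.image_preimage_eq_opensRange_inf, Scheme.Opens.opensRange_ι]
  refine le_inf ?_ le_rfl
  exact f.preimage_mono (V.ι_image_le W)

instance (M : X.Modules) : IsIso (bcApp f V M) := by
  unfold bcApp
  infer_instance

lemma bcApp_naturality {M N : X.Modules} (φ : M ⟶ N) :
    (restrictFunctor V.ι).map ((pushforward f).map φ) ≫ bcApp f V N =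
      bcApp f V M ≫ (pushforward (f ∣_ V)).map ((restrictFunctor (f ⁻¹ᵁ V).ι).map φ) := by
  unfold bcApp
  have h1 := (restrictAdjunction (f ⁻¹ᵁ V).ι).unit.naturality φ
  have h2 := (pushSquare f V).hom.naturality ((restrictFunctor (f ⁻¹ᵁ V).ι).map φ)
  have h3 := (restrictAdjunction V.ι).counit.naturality
    ((pushforward (f ∣_ V)).map ((restrictFunctor (f ⁻¹ᵁ V).ι).map φ))
  dsimp at h1 h2 h3
  have h1' := congrArg (fun t => (restrictFunctor V.ι).map ((pushforward f).map t)) h1
  have h2' := congrArg (fun t => (restrictFunctor V.ι).map t) h2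
  simp only [Functor.map_comp] at h1' h2'
  simp only [Category.assoc]
  rw [reassoc_of% h1', reassoc_of% h2', h3]

/-- Restriction to an open commutes with pushforward. -/
noncomputable def baseChangeIso :
    pushforward f ⋙ restrictFunctor V.ι ≅
      restrictFunctor (f ⁻¹ᵁ V).ι ⋙ pushforward (f ∣_ V) :=
  NatIso.ofComponents (fun M => asIso (bcApp f V M)) (fun φ => bcApp_naturality f V φ)

end Groth.Agent.H33.SchemeDer
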