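import Groth.Agent.H33.SheafMod.Grothendieck
import Groth.Agent.H33.KInj.Main
import Groth.Agent.H33.KInjAdj
import Groth.Agent.H31.ExtZeroS
import Groth.Prelude.Def_CxOX

/-!
# K-injective complexes of modules on schemes: existence, and restriction to opens
-/

set_option autoImplicit false

universe u

open CategoryTheory Limits AlgebraicGeometry

namespace Groth.Agent.H33.SchemeDer

instance isGrothendieckAbelian_modules (X : Scheme.{u}) : IsGrothendieckAbelian.{u} X.Modules :=
  SheafMod.isGrothendieckAbelian _ X.ringCatSheaf

/-- K-injective resolutions exist for complexes of modules on a scheme. -/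
lemma hKinj (X : Scheme.{u}) : ∀ K : CochainComplex X.Modules ℤ,
    ∃ (I : CochainComplex X.Modules ℤ) (f : K ⟶ I), I.IsKInjective ∧ QuasiIso f := fun K => by
  obtain ⟨I, f, hI, hf, -, -⟩ := KInj.exists_kInjective_resolution K
  exact ⟨I, f, hI, hf⟩

/-- Extension by zero from an open subscheme is exact. -/
instance preservesFiniteLimits_extZero {X : Scheme.{u}} (V : X.Opens) :
    PreservesFiniteLimits (CxOX.extZero V.ι) := by
  have h1 := Groth.Agent.H31.ExtZero.preservesFiniteLimits_extZero V X.sheaf
  have h2 : PreservesFiniteLimits (Scheme.Modules.overEquiv V).inverse := inferInstance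
  have h3 : PreservesFiniteLimits
      ((Scheme.Modules.overEquiv V).inverse ⋙ ModSite.extZero X.sheaf V) :=
    @comp_preservesFiniteLimits _ _ _ _ _ _ _ _ h2 h1
  exact @preservesFiniteLimits_of_natIso _ _ _ _ _ _ (CxOX.extZeroIsoSite V).symm h3

/-- Restriction to an open subscheme preserves K-injective complexes. -/
lemma isKInjective_restrict {X : Scheme.{u}} (V : X.Opens) (I : CochainComplex X.Modules ℤ)
    (hI : I.IsKInjective) :
    CochainComplex.IsKInjective
      (((Scheme.Modules.restrictFunctor V.ι).mapHomologicalComplex (ComplexShape.up ℤ)).obj I) :=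
  KInjAdj.isKInjective_map (CxOX.extZeroAdj V.ι) I

end Groth.Agent.H33.SchemeDer
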