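import Groth.Agent.H33.SchemeDer.LpullAdj
import Groth.Agent.H33.DerTriangle
import Mathlib.CategoryTheory.Limits.Preserves.Shapes.Products
import Mathlib.CategoryTheory.Preadditive.AdditiveFunctor
import Mathlib.CategoryTheory.Adjunction.Limits

/-!
# `Rf_*` commutes with derived limits
-/

set_option autoImplicit false

universe u

open CategoryTheory Limits AlgebraicGeometry Pretriangulated

attribute [local instance] HasDerivedCategory.standard

namespace Groth.Agent.H33.SchemeDer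

variable {X Y : Scheme.{u}} (f : X ⟶ Y) [DCoh.HasRpush f]

lemma preservesLimits_rpush : PreservesLimitsOfSize.{0, 0} (DCoh.Rpush f) := by
  have := Groth.Agent.H5.Lpull.hasLpull f
  exact (lpullRpushAdj f).rightAdjoint_preservesLimits

lemma additive_rpush : (DCoh.Rpush f).Additive := by
  have := Groth.Agent.H5.Lpull.hasLpull f
  have : (DCoh.Rpush f).IsRightAdjoint := (lpullRpushAdj f).isRightAdjoint
  have := preservesLimits_rpush f
  exact Functor.additive_of_preserves_binary_products _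

theorem rpush_isRlim (K : ℕ → DCoh.D X) (t : ∀ n, K (n + 1) ⟶ K n) [HasProduct K]
    [HasProduct fun n => (DCoh.Rpush f).obj (K n)]
    (L : DCoh.D X) (hL : DCoh.IsRlim K t L) :
    DCoh.IsRlim (fun n => (DCoh.Rpush f).obj (K n)) (fun n => (DCoh.Rpush f).map (t n))
      ((DCoh.Rpush f).obj L) := by
  have := preservesLimits_rpush f
  have := additive_rpush f
  obtain ⟨a, c, hT⟩ := hL
  let R := DCoh.Rpush f
  obtain ⟨w, hw⟩ : ∃ w : R.obj (∏ᶜ K) ⟶ (R.obj L)⟦(1 : ℤ)⟧,
      Triangle.mk (R.map a) (R.map (Pi.lift fun n => Pi.π K n - Pi.π K (n + 1) ≫ t n)) w ∈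
        distTriang (DCoh.D Y) :=
    DerTriangle.exists_distinguished (hKinj X) (DCoh.pushKh f) _ hT
  let e : R.obj (∏ᶜ K) ≅ ∏ᶜ fun n => R.obj (K n) := PreservesProduct.iso R K
  have he : ∀ n, e.hom ≫ Pi.π (fun n => R.obj (K n)) n = R.map (Pi.π K n) := fun n =>
    piComparison_comp_π R K n
  have hφ : R.map (Pi.lift fun n => Pi.π K n - Pi.π K (n + 1) ≫ t n) ≫ e.hom =
      e.hom ≫ Pi.lift fun n => Pi.π (fun n => R.obj (K n)) n -
        Pi.π (fun n => R.obj (K n)) (n + 1) ≫ R.map (t n) := by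
    apply Pi.hom_ext
    intro n
    rw [Category.assoc, Category.assoc, he, Pi.lift_π, ← Functor.map_comp, Pi.lift_π,
      Functor.map_sub, Functor.map_comp, Preadditive.comp_sub, he, ← Category.assoc, he]
  refine ⟨R.map a ≫ e.hom, e.inv ≫ w, isomorphic_distinguished _ hw _
    (Triangle.isoMk _ _ (Iso.refl _) e.symm e.symm ?_ ?_ ?_)⟩
  · show (R.map a ≫ e.hom) ≫ e.inv = 𝟙 _ ≫ R.map a
    rw [Category.id_comp, Category.assoc, Iso.hom_inv_id, Category.comp_id]
  · show (Pi.lift fun n => Pi.π (fun n => R.obj (K n)) n -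
        Pi.π (fun n => R.obj (K n)) (n + 1) ≫ R.map (t n)) ≫ e.inv =
      e.inv ≫ R.map (Pi.lift fun n => Pi.π K n - Pi.π K (n + 1) ≫ t n)
    rw [← cancel_mono e.hom, Category.assoc, Category.assoc, Iso.inv_hom_id, Category.comp_id,
      hφ, Iso.inv_hom_id_assoc]
  · show (e.inv ≫ w) ≫ (𝟙 (R.obj L))⟦(1 : ℤ)⟧' = e.inv ≫ w
    have h1 : (𝟙 (R.obj L))⟦(1 : ℤ)⟧' = 𝟙 _ := CategoryTheory.Functor.map_id _ _
    rw [h1, Category.comp_id]

end Groth.Agent.H33.SchemeDer
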