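import Groth.Agent.H5.Stalk.PullbackFlat
import Groth.Agent.H33.KInjAdj
import Mathlib.AlgebraicGeometry.Morphisms.Flat
import Mathlib.RingTheory.Flat.Basic

/-!
# Pullback of modules along a flat morphism of schemes is exact; pushforward along a flat
morphism preserves K-injective complexes
-/

set_option autoImplicit false

universe u

open CategoryTheory Limits AlgebraicGeometry

namespace Groth.Agent.H33.SchemeDer

/-- Extension of scalars along a flat ring homomorphism preserves monomorphisms. -/
lemma mono_extendScalars_map_of_flat {R S : Type u} [CommRing R] [CommRing S] (φ : R →+* S)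
    (hφ : φ.Flat) {M N : ModuleCat.{u} R} (g : M ⟶ N) [Mono g] :
    Mono ((ModuleCat.extendScalars φ).map g) := by
  have hg : Function.Injective g.hom := (ModuleCat.mono_iff_injective g).1 inferInstance
  rw [ModuleCat.mono_iff_injective]
  let _ : Algebra R S := φ.toAlgebra
  have hflat : Module.Flat R S := hφ
  exact Module.Flat.lTensor_preserves_injective_linearMap (M := S) g.hom hg

variable {X Y : Scheme.{u}} (f : X ⟶ Y) [Flat f]

/-- Pullback of modules along a flat morphism preserves monomorphisms. -/
lemma mono_pullback_map_of_flatMorphism {M N : Y.Modules} (g : M ⟶ N) [Mono g] :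
    Mono ((Scheme.Modules.pullback f).map g) := by
  apply Groth.Agent.H5.Stalk.mono_of_mono_stalkFunctor_map
  intro x
  have h₀ : Mono ((Groth.Agent.H5.Stalk.stalkFunctor (f x)).map g) := inferInstance
  have h₁ : Mono ((Groth.Agent.H5.Stalk.stalkExt f x).map g) :=
    mono_extendScalars_map_of_flat (f.stalkMap x).hom (Flat.stalkMap f x) _
  have h₂ : (Groth.Agent.H5.Stalk.pullbackStalk f x).map g ≫
      (Groth.Agent.H5.Stalk.pullbackStalkIso f x).hom.app N =
      (Groth.Agent.H5.Stalk.pullbackStalkIso f x).hom.app M ≫
        (Groth.Agent.H5.Stalk.stalkExt f x).map g :=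
    (Groth.Agent.H5.Stalk.pullbackStalkIso f x).hom.naturality g
  have h₃ : Mono ((Groth.Agent.H5.Stalk.pullbackStalk f x).map g ≫
      (Groth.Agent.H5.Stalk.pullbackStalkIso f x).hom.app N) := by
    rw [h₂]
    infer_instance
  exact mono_of_mono ((Groth.Agent.H5.Stalk.pullbackStalk f x).map g)
    ((Groth.Agent.H5.Stalk.pullbackStalkIso f x).hom.app N)

/-- Pullback of modules along a flat morphism of schemes is exact. -/
lemma preservesFiniteLimits_pullback_of_flat :
    PreservesFiniteLimits (Scheme.Modules.pullback f) := by
  rw [Functor.preservesFiniteLimits_iff_forall_exact_map_and_mono]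
  intro S hS
  have h := (Functor.preservesFiniteColimits_iff_forall_exact_map_and_epi
    (Scheme.Modules.pullback f)).1 inferInstance S hS
  have := hS.mono_f
  exact ⟨h.1, mono_pullback_map_of_flatMorphism f S.f⟩

/-- Pushforward along a flat morphism of schemes preserves K-injective complexes. -/
lemma isKInjective_pushforward_of_flat (I : CochainComplex X.Modules ℤ) (hI : I.IsKInjective) :
    CochainComplex.IsKInjective
      (((Scheme.Modules.pushforward f).mapHomologicalComplex (ComplexShape.up ℤ)).obj I) := by
  have := preservesFiniteLimits_pullback_of_flat f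
  exact KInjAdj.isKInjective_map (Scheme.Modules.pullbackPushforwardAdjunction f) I

end Groth.Agent.H33.SchemeDer
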