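import Groth.Agent.H33.SchemeDer.Restrict
import Groth.Agent.H33.SchemeDer.BaseChange
import Groth.Agent.H33.DerComp
import Groth.Prelude.Def_DCoh3

/-!
# `(Rf_* E)|_V ≅ R(f|_V)_* (E|_U)`
-/

set_option autoImplicit false

universe u

open CategoryTheory Limits AlgebraicGeometry

attribute [local instance] HasDerivedCategory.standard

namespace Groth.Agent.H33.SchemeDer

variable {X Y : Scheme.{u}} (f : X ⟶ Y) (V : Y.Opens)

/-- The isomorphism of the underived functors. -/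
noncomputable def underivedIso
    [PreservesFiniteLimits (Scheme.Modules.restrictFunctor V.ι)] :
    DCoh.pushKh f ⋙ DCoh.restrictD V.ι ≅
      (Scheme.Modules.restrictFunctor (f ⁻¹ᵁ V).ι).mapHomotopyCategory (ComplexShape.up ℤ) ⋙
        DCoh.pushKh (f ∣_ V) :=
  Functor.associator _ _ _ ≪≫
    Functor.isoWhiskerLeft _ (Scheme.Modules.restrictFunctor V.ι).mapDerivedCategoryFactorsh ≪≫
    (Functor.associator _ _ _).symm ≪≫
    Functor.isoWhiskerRight
      (Functor.mapHomotopyCategoryCompIso (Iso.refl _) (ComplexShape.up ℤ) ≪≫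
        (Functor.mapHomotopyCategoryCompIso (baseChangeIso f V).symm (ComplexShape.up ℤ)).symm)
      DerivedCategory.Qh ≪≫
    Functor.associator _ _ _

theorem restrictD_Rpush_iso [DCoh.HasRpush f] [DCoh.HasRpush (f ∣_ V)]
    [PreservesFiniteLimits (Scheme.Modules.restrictFunctor V.ι)]
    [PreservesFiniteLimits (Scheme.Modules.restrictFunctor (f ⁻¹ᵁ V).ι)] :
    Nonempty (DCoh.Rpush f ⋙ DCoh.restrictD V.ι ≅
      DCoh.restrictD (f ⁻¹ᵁ V).ι ⋙ DCoh.Rpush (f ∣_ V)) := by
  have h1 := DerComp.isRightDerivedFunctor_postcomp (hKinj X) (DCoh.pushKh f)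
    (DCoh.restrictD V.ι)
  have h2 := DerComp.isRightDerivedFunctor_precomp (hKinj ((f ⁻¹ᵁ V : X.Opens) : Scheme.{u}))
    (DCoh.pushKh (f ∣_ V)) (hKinj X)
    (Scheme.Modules.restrictFunctor (f ⁻¹ᵁ V).ι) (isKInjective_restrict (f ⁻¹ᵁ V))
  exact ⟨Functor.rightDerivedNatIso _ _
    (Functor.whiskerRight (DerComp.RFunit (DCoh.pushKh f)) (DCoh.restrictD V.ι) ≫
      (Functor.associator _ _ _).hom)
    (DerComp.precompUnit (DCoh.pushKh (f ∣_ V)) (Scheme.Modules.restrictFunctor (f ⁻¹ᵁ V).ι))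
    (HomotopyCategory.quasiIso X.Modules (ComplexShape.up ℤ)) (underivedIso f V)⟩

end Groth.Agent.H33.SchemeDer
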