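import Groth.Agent.H33.LeftAbs
import Groth.Agent.H5.Lpull
import Groth.Agent.H33.SchemeDer.Restrict
import Groth.Agent.H33.DerComp
import Groth.Agent.H33.DerAdjU
import Groth.Prelude.Def_DDual2

/-!
# The derived adjunction `Lf^* ⊣ Rf_*` for a morphism of schemes
-/

set_option autoImplicit false

universe u

open CategoryTheory Limits AlgebraicGeometry

attribute [local instance] HasDerivedCategory.standard

namespace Groth.Agent.H33.SchemeDer

variable {X Y : Scheme.{u}} (f : X ⟶ Y) [DCoh.HasLpull f] [DCoh.HasRpush f]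

/-- The counit of the derived pullback. -/
noncomputable abbrev lpullCounit : DerivedCategory.Qh ⋙ DCoh.Lpull f ⟶ DCoh.pullKh f :=
  (DCoh.pullKh f).totalLeftDerivedCounit DerivedCategory.Qh
    (HomotopyCategory.quasiIso Y.Modules (ComplexShape.up ℤ))

lemma isLeftDerivedFunctor_lpull_rpush :
    (DCoh.Lpull f ⋙ DCoh.Rpush f).IsLeftDerivedFunctor
      ((Functor.associator _ _ _).inv ≫ Functor.whiskerRight (lpullCounit f) (DCoh.Rpush f))
      (HomotopyCategory.quasiIso Y.Modules (ComplexShape.up ℤ)) :=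
  LeftAbs.isLeftDerivedFunctor_postcomp' Groth.Agent.H5.Lpull.hyp (Scheme.Modules.pullback f)
    (Groth.Agent.H5.Lpull.exactAt_pullback f) DerivedCategory.Qh (DCoh.Lpull f) (lpullCounit f)
    (DCoh.Rpush f)

lemma isRightDerivedFunctor_rpush_lpull :
    (DCoh.Rpush f ⋙ DCoh.Lpull f).IsRightDerivedFunctor
      (Functor.whiskerRight (DerComp.RFunit (DCoh.pushKh f)) (DCoh.Lpull f) ≫
        (Functor.associator _ _ _).hom)
      (HomotopyCategory.quasiIso X.Modules (ComplexShape.up ℤ)) :=
  DerComp.isRightDerivedFunctor_postcomp (hKinj X) (DCoh.pushKh f) (DCoh.Lpull f)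

/-- The derived adjunction `Lf^* ⊣ Rf_*`. -/
noncomputable def lpullRpushAdj : DCoh.Lpull f ⊣ DCoh.Rpush f :=
  have := isLeftDerivedFunctor_lpull_rpush f
  have := isRightDerivedFunctor_rpush_lpull f
  (DerAdjU.homotopyAdj (Scheme.Modules.pullbackPushforwardAdjunction f)
    (ComplexShape.up ℤ)).derived (HomotopyCategory.quasiIso Y.Modules (ComplexShape.up ℤ))
    (HomotopyCategory.quasiIso X.Modules (ComplexShape.up ℤ)) (lpullCounit f)
    (DerComp.RFunit (DCoh.pushKh f))

end Groth.Agent.H33.SchemeDer
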